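import Mathlib.GroupTheory.PGroup
import Mathlib.LinearAlgebra.PiTensorProduct.Basis
import Mathlib.LinearAlgebra.PiTensorProduct.Basic
import Mathlib.FieldTheory.PurelyInseparable.Basic
import Mathlib.Tactic

set_option autoImplicit false
universe u v w

open scoped TensorProduct

namespace K804.PSum

/-- A sum of a function invariant under a `p`-group, killed by `p`, lies in any submonoid containing
its values at the fixed points. -/
theorem sum_mem {p : ℕ} [Fact p.Prime] {G : Type u} {X : Type v} {M : Type w} [Group G] [Finite G]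
    (hG : IsPGroup p G) [Fintype X] [MulAction G X] [AddCommMonoid M] (hM : ∀ m : M, p • m = 0)
    (f : X → M) (hf : ∀ (g : G) (x : X), f (g • x) = f x) (N : AddSubmonoid M)
    (hN : ∀ x ∈ MulAction.fixedPoints G X, f x ∈ N) : ∑ x, f x ∈ N := by
  classical
  have hfinQ : Fintype (MulAction.orbitRel.Quotient G X) := Fintype.ofFinite _
  rw [← Finset.sum_fiberwise (s := Finset.univ)
    (g := fun x => (Quotient.mk'' x : MulAction.orbitRel.Quotient G X)) (f := f)]
  refine N.sum_mem fun ω _ => ?_
  induction ω using Quotient.inductionOn' with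
  | h x0 =>
    have h1 : ∀ x ∈ Finset.univ.filter (fun x => (Quotient.mk'' x : MulAction.orbitRel.Quotient G X) =
        Quotient.mk'' x0), f x = f x0 := by
      intro x hx
      rw [Finset.mem_filter, Quotient.eq''] at hx
      obtain ⟨g, rfl⟩ := hx.2
      exact hf g x0
    rw [Finset.sum_congr rfl h1, Finset.sum_const]
    obtain ⟨n, hn⟩ := hG.card_orbit x0
    have hcard : (Finset.univ.filter (fun x => (Quotient.mk'' x : MulAction.orbitRel.Quotient G X) =
        Quotient.mk'' x0)).card = p ^ n := by
      rw [← hn, Nat.card_eq_card_toFinset (MulAction.orbit G x0)]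
      congr 1
      ext x
      rw [Finset.mem_filter, Quotient.eq'', Set.mem_toFinset]
      simp [MulAction.orbitRel_apply]
    rw [hcard]
    rcases Nat.eq_zero_or_pos n with h0 | h0
    · subst h0
      rw [pow_zero, one_smul]
      apply hN
      rw [MulAction.mem_fixedPoints]
      intro g
      rw [pow_zero, Nat.card_eq_one_iff_unique] at hn
      have := hn.1
      have h2 := Subsingleton.elim (⟨g • x0, MulAction.mem_orbit _ _⟩ : MulAction.orbit G x0)
        ⟨x0, MulAction.mem_orbit_self _⟩
      exact congrArg Subtype.val h2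
    · obtain ⟨m, rfl⟩ := Nat.exists_eq_succ_of_ne_zero h0.ne'
      rw [pow_succ, mul_smul, hM, smul_zero]
      exact N.zero_mem

section

variable {K : Type u} {L : Type v} [Field K] [Field L] [Algebra K L]

theorem reindex_repr {κ : Type} [Fintype κ] {ι : Type w} (b : Module.Basis ι K L)
    (y : ⨂[K] _ : κ, L)
    (hy : ∀ σ : Equiv.Perm κ, PiTensorProduct.reindex K (fun _ : κ => L) σ y = y)
    (σ : Equiv.Perm κ) (c : κ → ι) :
    (Basis.piTensorProduct (fun _ : κ => b)).repr y (c ∘ σ) =
      (Basis.piTensorProduct (fun _ : κ => b)).repr y c := by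
  set B := Basis.piTensorProduct (fun _ : κ => b) with hB
  -- compare the two linear forms on `y`
  have key : ∀ z : ⨂[K] _ : κ, L, B.repr (PiTensorProduct.reindex K (fun _ : κ => L) σ z) c =
      B.repr z (c ∘ σ) := by
    intro z
    have h : ((Finsupp.lapply c) ∘ₗ B.repr.toLinearMap) ∘ₗ
        (PiTensorProduct.reindex K (fun _ : κ => L) σ).toLinearMap =
        (Finsupp.lapply (c ∘ σ)) ∘ₗ B.repr.toLinearMap := by
      apply PiTensorProduct.ext
      ext f
      simp only [LinearMap.compMultilinearMap_apply, LinearMap.comp_apply, LinearEquiv.coe_coe,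
        Finsupp.lapply_apply]
      rw [PiTensorProduct.reindex_tprod, hB, Basis.piTensorProduct_repr_tprod_apply,
        Basis.piTensorProduct_repr_tprod_apply, ← Equiv.prod_comp σ]
      refine Finset.prod_congr rfl fun i _ => ?_
      exact congrArg (fun j => (b.repr (f j)) (c (σ i))) (Equiv.symm_apply_apply σ i)
    exact LinearMap.congr_fun h z
  rw [← key, hy σ]

theorem mul_eq_sum {κ : Type} [Fintype κ] {ι : Type w} [Fintype ι] [DecidableEq κ]
    (b : Module.Basis ι K L) (y : ⨂[K] _ : κ, L) :
    PiTensorProduct.lift (MultilinearMap.mkPiAlgebra K κ L) y =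
      ∑ c : κ → ι, (Basis.piTensorProduct (fun _ : κ => b)).repr y c • ∏ i, b (c i) := by
  set B := Basis.piTensorProduct (fun _ : κ => b) with hB
  conv_lhs => rw [← B.sum_repr y]
  rw [map_sum]
  refine Finset.sum_congr rfl fun c _ => ?_
  rw [map_smul, hB, Basis.piTensorProduct_apply, PiTensorProduct.lift.tprod,
    MultilinearMap.mkPiAlgebra_apply]

/-- The product of a symmetric tensor of degree divisible by the degree of a purely inseparable
extension lies in the ground field. -/
theorem mul_mem_range_aux {p : ℕ} [Fact p.Prime] [CharP L p] [FiniteDimensional K L] (e m : ℕ)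
    (hpow : ∀ x : L, x ^ (p ^ e) ∈ (algebraMap K L).range)
    (y : ⨂[K] _ : Fin m × ZMod (p ^ e), L)
    (hy : ∀ σ : Equiv.Perm (Fin m × ZMod (p ^ e)),
      PiTensorProduct.reindex K (fun _ : Fin m × ZMod (p ^ e) => L) σ y = y) :
    haveI : NeZero (p ^ e) := ⟨pow_ne_zero _ (Fact.out : p.Prime).ne_zero⟩
    PiTensorProduct.lift (MultilinearMap.mkPiAlgebra K (Fin m × ZMod (p ^ e)) L) y ∈
      (algebraMap K L).range := by
  classical
  have hne : NeZero (p ^ e) := ⟨pow_ne_zero _ (Fact.out : p.Prime).ne_zero⟩
  let b := Module.finBasis K L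
  rw [mul_eq_sum b y]
  -- the action of `ZMod (p ^ e)` by translation of the second coordinate
  let τ : ZMod (p ^ e) → Equiv.Perm (Fin m × ZMod (p ^ e)) := fun g =>
    { toFun := fun z => (z.1, z.2 + g)
      invFun := fun z => (z.1, z.2 - g)
      left_inv := fun z => by simp
      right_inv := fun z => by simp }
  let act : MulAction (Multiplicative (ZMod (p ^ e)))
      (Fin m × ZMod (p ^ e) → Fin (Module.finrank K L)) :=
    { smul := fun g c => c ∘ τ (Multiplicative.toAdd g)
      one_smul := fun c => by
        funext z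
        change c (z.1, z.2 + 0) = c z
        rw [add_zero]
      mul_smul := fun g h c => by
        funext z
        change c (z.1, z.2 + (Multiplicative.toAdd g + Multiplicative.toAdd h)) =
          c (z.1, z.2 + Multiplicative.toAdd g + Multiplicative.toAdd h)
        rw [add_assoc] }
  have hG : IsPGroup p (Multiplicative (ZMod (p ^ e))) := by
    apply IsPGroup.of_card (n := e)
    rw [Nat.card_congr Multiplicative.toAdd, Nat.card_zmod]
  refine sum_mem hG (fun x => by
    rw [← Nat.cast_smul_eq_nsmul L, CharP.cast_eq_zero, zero_smul]) _ ?_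
    (algebraMap K L).range.toAddSubmonoid ?_
  · intro g c
    change (Basis.piTensorProduct (fun _ => b)).repr y (c ∘ τ (Multiplicative.toAdd g)) •
      ∏ i, b ((c ∘ τ (Multiplicative.toAdd g)) i) = _
    rw [reindex_repr b y hy, ← Equiv.prod_comp (τ (Multiplicative.toAdd g))
      (fun i => b (c i))]
    rfl
  · intro c hc
    rw [MulAction.mem_fixedPoints] at hc
    have hc' : ∀ z : Fin m × ZMod (p ^ e), c z = c (z.1, 0) := by
      intro z
      have h1 := congrFun (hc (Multiplicative.ofAdd z.2)) (z.1, 0)
      change c (z.1, 0 + z.2) = c (z.1, 0) at h1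
      rwa [zero_add] at h1
    have h2 : ∏ i, b (c i) ∈ (algebraMap K L).range := by
      rw [Fintype.prod_prod_type]
      refine Subring.prod_mem _ fun i _ => ?_
      have h3 : ∀ z : ZMod (p ^ e), b (c (i, z)) = b (c (i, 0)) := fun z => by rw [hc' (i, z)]
      rw [Finset.prod_congr rfl fun z _ => h3 z, Finset.prod_const, Finset.card_univ,
        ZMod.card]
      exact hpow _
    obtain ⟨w, hw⟩ := h2
    rw [← hw, Algebra.smul_def, ← map_mul]
    exact ⟨_, rfl⟩

theorem lift_reindex {κ κ' : Type} [Fintype κ] [Fintype κ'] [DecidableEq κ] [DecidableEq κ']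
    (ε : κ ≃ κ') (y : ⨂[K] _ : κ, L) :
    PiTensorProduct.lift (MultilinearMap.mkPiAlgebra K κ' L)
      (PiTensorProduct.reindex K (fun _ : κ => L) ε y) =
    PiTensorProduct.lift (MultilinearMap.mkPiAlgebra K κ L) y := by
  have h : (PiTensorProduct.lift (MultilinearMap.mkPiAlgebra K κ' L)) ∘ₗ
      (PiTensorProduct.reindex K (fun _ : κ => L) ε).toLinearMap =
      PiTensorProduct.lift (MultilinearMap.mkPiAlgebra K κ L) := by
    apply PiTensorProduct.ext
    ext f
    simp only [LinearMap.compMultilinearMap_apply, LinearMap.comp_apply, LinearEquiv.coe_coe]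
    rw [PiTensorProduct.reindex_tprod, PiTensorProduct.lift.tprod, PiTensorProduct.lift.tprod,
      MultilinearMap.mkPiAlgebra_apply, MultilinearMap.mkPiAlgebra_apply]
    exact Equiv.prod_comp ε.symm f
  exact LinearMap.congr_fun h y

theorem mul_mem_range {p : ℕ} [Fact p.Prime] [CharP L p] [FiniteDimensional K L] (e d : ℕ)
    (hd : p ^ e ∣ d)
    (hpow : ∀ x : L, x ^ (p ^ e) ∈ (algebraMap K L).range) (y : ⨂[K] _ : Fin d, L)
    (hy : ∀ σ : Equiv.Perm (Fin d), PiTensorProduct.reindex K (fun _ : Fin d => L) σ y = y) :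
    PiTensorProduct.lift (MultilinearMap.mkPiAlgebra K (Fin d) L) y ∈ (algebraMap K L).range := by
  classical
  have hne : NeZero (p ^ e) := ⟨pow_ne_zero _ (Fact.out : p.Prime).ne_zero⟩
  obtain ⟨m, rfl⟩ := hd
  have hcard : Fintype.card (Fin (p ^ e * m)) = Fintype.card (Fin m × ZMod (p ^ e)) := by
    rw [Fintype.card_prod, Fintype.card_fin, Fintype.card_fin, ZMod.card, mul_comm]
  let ε : Fin (p ^ e * m) ≃ Fin m × ZMod (p ^ e) := Fintype.equivOfCardEq hcard
  rw [← lift_reindex ε y]
  apply mul_mem_range_aux e m hpow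
  intro σ
  have h1 := hy ((ε.trans σ).trans ε.symm)
  have h2 : PiTensorProduct.reindex K (fun _ : Fin m × ZMod (p ^ e) => L) σ
      (PiTensorProduct.reindex K (fun _ => L) ε y) =
      PiTensorProduct.reindex K (fun _ => L) ε
        (PiTensorProduct.reindex K (fun _ => L) ((ε.trans σ).trans ε.symm) y) := by
    have h3 : (PiTensorProduct.reindex K (fun _ : Fin m × ZMod (p ^ e) => L) σ).toLinearMap ∘ₗ
        (PiTensorProduct.reindex K (fun _ => L) ε).toLinearMap =
        (PiTensorProduct.reindex K (fun _ => L) ε).toLinearMap ∘ₗ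
        (PiTensorProduct.reindex K (fun _ => L) ((ε.trans σ).trans ε.symm)).toLinearMap := by
      apply PiTensorProduct.ext
      ext f
      simp only [LinearMap.compMultilinearMap_apply, LinearMap.comp_apply, LinearEquiv.coe_coe]
      rw [PiTensorProduct.reindex_tprod, PiTensorProduct.reindex_tprod,
        PiTensorProduct.reindex_tprod, PiTensorProduct.reindex_tprod]
      congr 1
      funext i
      exact congrArg (fun j => f (ε.symm (σ.symm j))) (ε.apply_symm_apply i).symm
    exact LinearMap.congr_fun h3 y
  rw [h2, h1]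

end

end K804.PSum
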