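import Mathlib.AlgebraicGeometry.ResidueField
import Mathlib.AlgebraicGeometry.Morphisms.Finite
import Mathlib.AlgebraicGeometry.Morphisms.UniversallyInjective
import Mathlib.AlgebraicGeometry.Noetherian
import Mathlib.FieldTheory.PurelyInseparable.Basic
import Mathlib.Tactic

set_option autoImplicit false
universe u v w

namespace K804.ResDeg

open AlgebraicGeometry

/-- generators of a finite algebra generate the residue field extension. -/
theorem bound {A B F E : Type*} [CommRing A] [CommRing B] [Algebra A B] [Field F] [Field E]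
    [Algebra F E] (α : A →+* F) (β : B →+* E)
    (hcomm : ∀ a, β (algebraMap A B a) = algebraMap F E (α a)) (s : Finset B)
    (hs : Submodule.span A (s : Set B) = ⊤)
    (hE : ∀ x : E, ∃ b c, β c ≠ 0 ∧ β c * x = β b) :
    Module.Finite F E ∧ Module.finrank F E ≤ s.card := by
  classical
  set W : Submodule F E := Submodule.span F ((s.image β : Finset E) : Set E) with hW
  have hfinW : Module.Finite F W := Module.Finite.span_finset F _
  have hβ : ∀ b, β b ∈ W := by
    intro b
    have hb : b ∈ Submodule.span A (s : Set B) := by rw [hs]; trivial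
    induction hb using Submodule.span_induction with
    | mem x hx => exact Submodule.subset_span (by simpa using ⟨x, hx, rfl⟩)
    | zero => simp
    | add x y _ _ hx hy => rw [map_add]; exact W.add_mem hx hy
    | smul a x _ hx =>
      rw [Algebra.smul_def, map_mul, hcomm, ← Algebra.smul_def]
      exact W.smul_mem _ hx
  have hmul : ∀ c, ∀ w ∈ W, β c * w ∈ W := by
    intro c w hw
    induction hw using Submodule.span_induction with
    | mem x hx =>
      obtain ⟨b, hb, rfl⟩ := by simpa using hx
      rw [← map_mul]; exact hβ _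
    | zero => simp
    | add x y _ _ hx hy => rw [mul_add]; exact W.add_mem hx hy
    | smul a x _ hx => rw [mul_smul_comm]; exact W.smul_mem _ hx
  have htop : W = ⊤ := by
    rw [eq_top_iff]
    intro x _
    obtain ⟨b, c, hc, hx⟩ := hE x
    let φ : W →ₗ[F] W :=
      { toFun := fun w => ⟨β c * w, hmul c w w.2⟩
        map_add' := fun w w' => Subtype.ext (by simp [mul_add])
        map_smul' := fun a w => Subtype.ext (by simp) }
    have hinj : Function.Injective φ := by
      intro w w' h
      have := congrArg Subtype.val h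
      exact Subtype.ext (mul_left_cancel₀ hc this)
    obtain ⟨w, hw⟩ := (LinearMap.injective_iff_surjective (f := φ)).mp hinj ⟨β b, hβ b⟩
    have h2 : β c * (w : E) = β c * x := by
      rw [hx]; exact congrArg Subtype.val hw
    rw [← mul_left_cancel₀ hc h2]
    exact w.2
  have hfin : Module.Finite F E := ⟨by rw [← htop]; exact (Module.Finite.iff_fg.mp hfinW)⟩
  refine ⟨hfin, ?_⟩
  have h1 : Module.finrank F E = Module.finrank F W := by
    rw [htop, finrank_top]
  rw [h1]
  exact (finrank_span_finset_le_card _).trans Finset.card_image_le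

/-- elements of the residue field at a point of an affine open are fractions of sections. -/
theorem exists_eval {X : Scheme.{u}} {V : X.Opens} (hV : IsAffineOpen V) (x : X) (hx : x ∈ V)
    (z : X.residueField x) :
    ∃ b c : Γ(X, V), X.evaluation V x hx c ≠ 0 ∧ X.evaluation V x hx c * z = X.evaluation V x hx b := by
  obtain ⟨w, rfl⟩ := X.residue_surjective x z
  let := X.presheaf.algebra_section_stalk ⟨x, hx⟩
  have hloc := hV.isLocalization_stalk ⟨x, hx⟩
  obtain ⟨⟨b, c⟩, hbc⟩ := IsLocalization.surj (hV.primeIdealOf ⟨x, hx⟩).asIdeal.primeCompl w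
  refine ⟨b, c, ?_, ?_⟩
  · have hu := IsLocalization.map_units (X.presheaf.stalk x) c
    have hu2 : IsUnit (X.presheaf.germ V x hx (c : Γ(X, V))) := hu
    have hu3 : IsUnit (X.residue x (X.presheaf.germ V x hx (c : Γ(X, V)))) :=
      hu2.map (X.residue x).hom
    exact hu3.ne_zero
  · have h2 : w * (X.presheaf.germ V x hx (c : Γ(X, V))) = X.presheaf.germ V x hx b := hbc
    have h3 := congrArg (X.residue x) h2
    rw [map_mul] at h3
    rw [mul_comm]
    exact h3

/-- degree bound for a finite morphism over an affine open. -/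
theorem bound_affine {X Y : Scheme.{u}} (f : X ⟶ Y) [IsFinite f] (U : Y.affineOpens) :
    ∃ N : ℕ, ∀ x : X, f x ∈ (U : Y.Opens) →
      @Module.Finite (Y.residueField (f x)) (X.residueField x) _ _
        (f.residueFieldMap x).hom.toAlgebra.toModule ∧
      @Module.finrank (Y.residueField (f x)) (X.residueField x) _ _
        (f.residueFieldMap x).hom.toAlgebra.toModule ≤ N := by
  have hfin : (f.app U).hom.Finite := IsFinite.finite_app f _ U.2
  have hV : IsAffineOpen (f ⁻¹ᵁ (U : Y.Opens)) := U.2.preimage f
  algebraize [(f.app U).hom]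
  obtain ⟨s, hs⟩ := Module.Finite.fg_top (R := Γ(Y, U)) (M := Γ(X, f ⁻¹ᵁ U))
  refine ⟨s.card, fun x hx => ?_⟩
  let := (f.residueFieldMap x).hom.toAlgebra
  exact bound (Y.evaluation U (f x) hx).hom (X.evaluation (f ⁻¹ᵁ U) x hx).hom
    (fun a => (Scheme.evaluation_naturality_apply f x hx a).symm) s hs
    (fun z => exists_eval hV x hx z)

/-- degree bound for a finite morphism to a quasi-compact scheme. -/
theorem exists_bound {X Y : Scheme.{u}} (f : X ⟶ Y) [IsFinite f] [CompactSpace Y] :
    ∃ N : ℕ, ∀ x : X,
      @Module.Finite (Y.residueField (f x)) (X.residueField x) _ _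
        (f.residueFieldMap x).hom.toAlgebra.toModule ∧
      @Module.finrank (Y.residueField (f x)) (X.residueField x) _ _
        (f.residueFieldMap x).hom.toAlgebra.toModule ≤ N := by
  have key : ∃ N : ℕ, ∀ x : X, f x ∈ (⊤ : Y.Opens) →
      @Module.Finite (Y.residueField (f x)) (X.residueField x) _ _
        (f.residueFieldMap x).hom.toAlgebra.toModule ∧
      @Module.finrank (Y.residueField (f x)) (X.residueField x) _ _
        (f.residueFieldMap x).hom.toAlgebra.toModule ≤ N := by
    refine compact_open_induction_on (P := fun U => ∃ N : ℕ, ∀ x : X, f x ∈ U →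
      @Module.Finite (Y.residueField (f x)) (X.residueField x) _ _
        (f.residueFieldMap x).hom.toAlgebra.toModule ∧
      @Module.finrank (Y.residueField (f x)) (X.residueField x) _ _
        (f.residueFieldMap x).hom.toAlgebra.toModule ≤ N) (⊤ : Y.Opens)
      (by simpa using isCompact_univ) ?_ ?_
    · exact ⟨0, fun x hx => absurd hx (by simp)⟩
    · rintro S - U ⟨N, hN⟩
      obtain ⟨M, hM⟩ := bound_affine f U
      refine ⟨max N M, fun x hx => ?_⟩
      rcases hx with hx | hx
      · exact ⟨(hN x hx).1, (hN x hx).2.trans (le_max_left _ _)⟩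
      · exact ⟨(hM x hx).1, (hM x hx).2.trans (le_max_right _ _)⟩
  obtain ⟨N, hN⟩ := key
  exact ⟨N, fun x => hN x trivial⟩

end K804.ResDeg
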