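import Groth.Prelude.Def_Flat
import Groth.Agent.ChowMon.K804.PSum
import Groth.Agent.ChowMon.K804.ResDeg
import Groth.Agent.FlatA.UnivHomeo
import Mathlib.RingTheory.LocalRing.ResidueField.Ideal
import Mathlib.AlgebraicGeometry.Morphisms.UniversallyInjective
import Mathlib.FieldTheory.IsAlgClosed.AlgebraicClosure

set_option autoImplicit false
universe u v w

open AlgebraicGeometry CategoryTheory
open scoped TensorProduct

namespace K804.InsepRes

/-- residue extensions of a universal homeomorphism of affine schemes are purely inseparable. -/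
theorem isPurelyInseparable {C C' : Type u} [CommRing C] [CommRing C'] (g : C →+* C')
    (hg : FlatMor.IsUnivHomeo (Spec.map (CommRingCat.ofHom g))) (q : PrimeSpectrum C') :
    @IsPurelyInseparable (PrimeSpectrum.comap g q).asIdeal.ResidueField q.asIdeal.ResidueField _ _
      (Ideal.ResidueField.map (PrimeSpectrum.comap g q).asIdeal q.asIdeal g rfl).toAlgebra := by
  let := (Ideal.ResidueField.map (PrimeSpectrum.comap g q).asIdeal q.asIdeal g rfl).toAlgebra
  have hui := Groth.Agent.FlatA.UnivHomeo.universallyInjective_of_isUnivHomeo hg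
  have htfae := tfae_universallyInjective (Spec.map (CommRingCat.ofHom g))
  have hinj : ∀ (K : Type u) [Field K], Function.Injective
      (fun h : Spec (.of K) ⟶ Spec (.of C') ↦ h ≫ Spec.map (CommRingCat.ofHom g)) :=
    (htfae.out 0 1).mp hui
  have hne : Nonempty (q.asIdeal.ResidueField →+* AlgebraicClosure q.asIdeal.ResidueField) :=
    ⟨algebraMap _ _⟩
  apply IsPurelyInseparable.of_injective_comp_algebraMap _ _ (AlgebraicClosure q.asIdeal.ResidueField)
  · intro f₁ f₂ h
    apply Ideal.ResidueField.ringHom_ext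
    have h1 := hinj (AlgebraicClosure q.asIdeal.ResidueField)
      (a₁ := Spec.map (CommRingCat.ofHom (f₁.comp (algebraMap C' q.asIdeal.ResidueField))))
      (a₂ := Spec.map (CommRingCat.ofHom (f₂.comp (algebraMap C' q.asIdeal.ResidueField)))) (by
        simp only [← Spec.map_comp, ← CommRingCat.ofHom_comp]
        congr 2
        ext c
        have h2 := RingHom.congr_fun h (algebraMap C _ c)
        simp only [RingHom.comp_apply] at h2 ⊢
        change f₁ (Ideal.ResidueField.map _ _ g rfl (algebraMap C _ c)) =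
          f₂ (Ideal.ResidueField.map _ _ g rfl (algebraMap C _ c)) at h2
        rwa [Ideal.ResidueField.map_algebraMap] at h2)
    have h3 := Spec.map_injective h1
    exact congrArg CommRingCat.Hom.hom h3

/-- the degree of a finite purely inseparable extension kills it. -/
theorem pow_mem_range {K : Type u} {L : Type v} [Field K] [Field L] [Algebra K L] (q : ℕ)
    [ExpChar K q] [IsPurelyInseparable K L] [FiniteDimensional K L] (e : ℕ) (hq : 1 < q)
    (he : Module.finrank K L = q ^ e) (x : L) : x ^ (q ^ e) ∈ (algebraMap K L).range := by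
  obtain ⟨n, y, hy⟩ := IsPurelyInseparable.minpoly_eq_X_pow_sub_C K q x
  have h1 : (minpoly K x).natDegree ∣ Module.finrank K L :=
    minpoly.degree_dvd (Algebra.IsIntegral.isIntegral x)
  rw [hy, Polynomial.natDegree_sub_C, Polynomial.natDegree_X_pow, he] at h1
  have hne : n ≤ e := (Nat.pow_dvd_pow_iff_le_right hq).mp h1
  have h2 : x ^ q ^ n = algebraMap K L y := by
    have := minpoly.aeval K x
    rw [hy, map_sub, map_pow, Polynomial.aeval_X, Polynomial.aeval_C, sub_eq_zero] at this
    exact this
  obtain ⟨m, rfl⟩ := Nat.exists_eq_add_of_le hne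
  rw [pow_add, pow_mul, h2, ← map_pow]
  exact ⟨_, rfl⟩

section

variable {A : Type u} {B : Type v} {K : Type u} {L : Type w} [CommRing A] [CommRing B]
  [Algebra A B] [Field K] [Field L] [Algebra K L] [Algebra A K] [Algebra A L] [IsScalarTower A K L]

/-- the base change of the tensor power to a field. -/
noncomputable def bc (d : ℕ) (ψ : B →ₐ[A] L) : (⨂[A] _ : Fin d, B) →ₗ[A] (⨂[K] _ : Fin d, L) :=
  PiTensorProduct.lift (((PiTensorProduct.tprod K (s := fun _ : Fin d => L)).restrictScalars
    A).compLinearMap (fun _ => ψ.toLinearMap))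

theorem bc_tprod (d : ℕ) (ψ : B →ₐ[A] L) (f : Fin d → B) :
    bc (K := K) d ψ (PiTensorProduct.tprod A f) = PiTensorProduct.tprod K (fun i => ψ (f i)) := by
  rw [bc, PiTensorProduct.lift.tprod]
  rfl

theorem bc_reindex (d : ℕ) (ψ : B →ₐ[A] L) (σ : Equiv.Perm (Fin d)) (x : ⨂[A] _ : Fin d, B) :
    PiTensorProduct.reindex K (fun _ : Fin d => L) σ (bc (K := K) d ψ x) =
      bc (K := K) d ψ (PiTensorProduct.reindex A (fun _ : Fin d => B) σ x) := by
  have h : ((PiTensorProduct.reindex K (fun _ : Fin d => L) σ).toLinearMap.restrictScalars A) ∘ₗ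
      (bc (K := K) d ψ) = (bc (K := K) d ψ) ∘ₗ
      (PiTensorProduct.reindex A (fun _ : Fin d => B) σ).toLinearMap := by
    apply PiTensorProduct.ext
    ext f
    simp only [LinearMap.compMultilinearMap_apply, LinearMap.comp_apply, LinearEquiv.coe_coe,
      LinearMap.coe_restrictScalars]
    rw [bc_tprod, PiTensorProduct.reindex_tprod, PiTensorProduct.reindex_tprod, bc_tprod]
  exact LinearMap.congr_fun h x

theorem mul_bc (d : ℕ) (ψ : B →ₐ[A] L) (x : ⨂[A] _ : Fin d, B) :
    PiTensorProduct.lift (MultilinearMap.mkPiAlgebra K (Fin d) L) (bc (K := K) d ψ x) =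
      ψ (PiTensorProduct.lift (MultilinearMap.mkPiAlgebra A (Fin d) B) x) := by
  have h : ((PiTensorProduct.lift (MultilinearMap.mkPiAlgebra K (Fin d) L)).restrictScalars A) ∘ₗ
      (bc (K := K) d ψ) = ψ.toLinearMap ∘ₗ
      (PiTensorProduct.lift (MultilinearMap.mkPiAlgebra A (Fin d) B)) := by
    apply PiTensorProduct.ext
    ext f
    simp only [LinearMap.compMultilinearMap_apply, LinearMap.comp_apply,
      LinearMap.coe_restrictScalars, AlgHom.toLinearMap_apply]
    rw [bc_tprod, PiTensorProduct.lift.tprod, PiTensorProduct.lift.tprod,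
      MultilinearMap.mkPiAlgebra_apply, MultilinearMap.mkPiAlgebra_apply, map_prod]
  exact LinearMap.congr_fun h x

/-- products of symmetric tensors of degree divisible by the degree of a finite purely
inseparable extension are rational. -/
theorem mul_mem (d : ℕ) (ψ : B →ₐ[A] L) [IsPurelyInseparable K L] [FiniteDimensional K L]
    (hd : Module.finrank K L ∣ d) (x : ⨂[A] _ : Fin d, B)
    (hx : ∀ σ : Equiv.Perm (Fin d), PiTensorProduct.reindex A (fun _ : Fin d => B) σ x = x) :
    ψ (PiTensorProduct.lift (MultilinearMap.mkPiAlgebra A (Fin d) B) x) ∈ (algebraMap K L).range := by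
  obtain ⟨q, hq⟩ := ExpChar.exists K
  obtain ⟨e, he⟩ := IsPurelyInseparable.finrank_eq_pow (F := K) L q
  rcases hq with _ | ⟨hprime⟩
  · -- characteristic zero
    rw [one_pow] at he
    have h1 : Function.Surjective (algebraMap K L) := by
      have h2 := finrank_eq_one_iff_of_nonzero' (K := K) (1 : L) one_ne_zero |>.mp he
      intro z
      obtain ⟨c, hc⟩ := h2 z
      exact ⟨c, by rw [← hc, Algebra.smul_def, mul_one]⟩
    obtain ⟨c, hc⟩ := h1 (ψ (PiTensorProduct.lift (MultilinearMap.mkPiAlgebra A (Fin d) B) x))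
    exact ⟨c, hc⟩
  · have : Fact q.Prime := ⟨hprime⟩
    have : ExpChar K q := ExpChar.prime hprime
    have : CharP L q := charP_of_injective_algebraMap (algebraMap K L).injective q
    rw [← mul_bc (K := K) d ψ x]
    refine K804.PSum.mul_mem_range (p := q) e d (he ▸ hd)
      (pow_mem_range q e hprime.one_lt he) _ fun σ => ?_
    rw [bc_reindex, hx σ]

end

end K804.InsepRes
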