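import Groth.Prelude.Def_HTop2
import Mathlib.RingTheory.IntegralClosure.Algebra.Basic
import Mathlib.RingTheory.Ideal.GoingUp
import Mathlib.RingTheory.Ideal.MinimalPrime.Basic
import Mathlib.RingTheory.Spectrum.Prime.Basic
import Mathlib.Tactic

set_option autoImplicit false
universe u v w

namespace K804.SemiN

/-- seminormality gives: `w² , w³` in the subring imply `w` in the subring. -/
theorem mem_of_sq_cube {C : Type u} {C' : Type v} [CommRing C] [CommRing C'] (g : C →+* C')
    (hC : HTop.IsSeminormalRing C) [IsReduced C'] (hinj : Function.Injective g) (w : C')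
    (h2 : w ^ 2 ∈ g.range) (h3 : w ^ 3 ∈ g.range) : w ∈ g.range := by
  obtain ⟨x, hx⟩ := h2
  obtain ⟨y, hy⟩ := h3
  have hxy : x ^ 3 = y ^ 2 := by
    apply hinj
    rw [map_pow, map_pow, hx, hy]; ring
  obtain ⟨a, ⟨ha2, ha3⟩, -⟩ := hC x y hxy
  have e2 : w ^ 2 = (g a) ^ 2 := by rw [← hx, ha2, map_pow]
  have e3 : w ^ 3 = (g a) ^ 3 := by rw [← hy, ha3, map_pow]
  have h0 : (w - g a) ^ 3 = 0 := by
    have : (w - g a) ^ 3 = w ^ 3 - 3 * w ^ 2 * g a + 3 * w * (g a) ^ 2 - (g a) ^ 3 := by ring
    rw [this, ← e2, e2, ← e2]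
    linear_combination 4 * e3 - 3 * (g a) * e2
  have h1 : w - g a = 0 := by
    by_contra hne
    exact hne (IsReduced.eq_zero _ ⟨3, h0⟩)
  exact ⟨a, (sub_eq_zero.mp h1).symm⟩

/-- A seminormal ring `C` contains every element of a reduced integral extension with the same
spectrum whose values at all points are rational over `C`. -/
theorem mem_range_of_pointwise {C : Type u} {C' : Type v} [CommRing C] [CommRing C'] (g : C →+* C')
    (hC : HTop.IsSeminormalRing C) [IsReduced C'] (hinj : Function.Injective g)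
    (hint : g.IsIntegral) (hspec : Function.Injective (PrimeSpectrum.comap g)) (c' : C')
    (hpt : ∀ q : PrimeSpectrum C', ∃ a s : C, g s ∉ q.asIdeal ∧ g s * c' - g a ∈ q.asIdeal) :
    c' ∈ g.range := by
  classical
  by_contra hc'
  algebraize [g]
  set D : Subalgebra C C' := Algebra.adjoin C {c'} with hD
  have hc'D : c' ∈ D := Algebra.subset_adjoin rfl
  have hgD : ∀ c : C, g c ∈ D := fun c => D.algebraMap_mem c
  -- the conductor
  let J : Ideal D :=
    { carrier := {x | ∀ y : D, (x : C') * y ∈ g.range}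
      add_mem' := fun {a b} ha hb y => by
        rw [Subalgebra.coe_add, add_mul]; exact g.range.add_mem (ha y) (hb y)
      zero_mem' := fun y => by simp
      smul_mem' := fun c x hx y => by
        have := hx (c * y)
        rw [smul_eq_mul, Subalgebra.coe_mul, mul_comm (c : C') (x : C'), mul_assoc]
        simpa using this }
  have hJ : ∀ x : D, x ∈ J ↔ ∀ y : D, (x : C') * y ∈ g.range := fun x => Iff.rfl
  let gD : C →+* D := algebraMap C D
  have hgDc : ∀ c : C, ((gD c : D) : C') = g c := fun c => rfl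
  let I : Ideal C := J.comap gD
  have hI : I ≠ ⊤ := by
    intro h
    have h1 : (1 : C) ∈ I := by rw [h]; trivial
    have h2 : ((gD 1 : D) : C') * c' ∈ g.range := h1 ⟨c', hc'D⟩
    rw [map_one, Subalgebra.coe_one, one_mul] at h2
    exact hc' h2
  obtain ⟨P0, hP0, hIP0⟩ := Ideal.exists_le_maximal I hI
  have := hP0.isPrime
  obtain ⟨p, hpmin, -⟩ := Ideal.exists_minimalPrimes_le hIP0
  have hpp : p.IsPrime := hpmin.1.1
  have hIp : I ≤ p := hpmin.1.2
  -- radicality
  have hradA : ∀ x : D, x ^ 2 ∈ J → x ^ 3 ∈ J → x ∈ J := by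
    intro x h2 h3 y
    apply mem_of_sq_cube g hC hinj
    · have := h2 (y ^ 2)
      simpa [mul_pow] using this
    · have := h3 (y ^ 3)
      simpa [mul_pow] using this
  have hradB : ∀ (n : ℕ) (x : D), 0 < n → x ^ n ∈ J → x ∈ J := by
    intro n
    induction n using Nat.strong_induction_on with
    | _ n ih =>
      intro x hn hx
      rcases Nat.lt_or_ge n 2 with h | h
      · have : n = 1 := by omega
        subst this
        simpa using hx
      · have h1 : x ^ ((n + 1) / 2) ∈ J := by
          apply hradA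
          · rw [← pow_mul]
            have e : (n + 1) / 2 * 2 = n + ((n + 1) / 2 * 2 - n) := by omega
            rw [e, pow_add]
            exact J.mul_mem_right _ hx
          · rw [← pow_mul]
            have e : (n + 1) / 2 * 3 = n + ((n + 1) / 2 * 3 - n) := by omega
            rw [e, pow_add]
            exact J.mul_mem_right _ hx
        exact ih ((n + 1) / 2) (by omega) x (by omega) h1
  -- lying over for `C' / C`
  have hintD : ∀ (Q : Ideal D) [Q.IsPrime], ∃ q : PrimeSpectrum C', q.asIdeal.comap (algebraMap D C') = Q := by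
    intro Q _
    have hi : Algebra.IsIntegral D C' := Algebra.IsIntegral.tower_top (R := C)
    obtain ⟨q, -, hqp, hq⟩ := Ideal.exists_ideal_over_prime_of_isIntegral Q (⊥ : Ideal C') (by
      intro x hx
      have hx' : algebraMap D C' x = 0 := by simpa using hx
      have : x = 0 := Subtype.ext hx'
      rw [this]; exact Q.zero_mem)
    exact ⟨⟨q, hqp⟩, hq⟩
  have hlyC : ∃ q : PrimeSpectrum C', q.asIdeal.comap g = p := by
    obtain ⟨q, -, hqp, hq⟩ := Ideal.exists_ideal_over_prime_of_isIntegral p (⊥ : Ideal C') (by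
      intro x hx
      have hx' : g x = 0 := by
        have h7 : algebraMap C C' x = 0 := by simpa using hx
        exact h7
      have : x = 0 := hinj (by rw [hx', map_zero])
      rw [this]; exact p.zero_mem)
    exact ⟨⟨q, hqp⟩, hq⟩
  obtain ⟨q', hq'⟩ := hlyC
  obtain ⟨a, s, hs, hz⟩ := hpt q'
  have hsp : s ∉ p := by
    intro h
    rw [← hq'] at h
    exact hs h
  -- key step
  have keyC : ∃ t : C, t ∉ p ∧ g t * c' ∈ g.range := by
    let z : D := ⟨g s * c' - g a, D.sub_mem (D.mul_mem (hgD s) hc'D) (hgD a)⟩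
    let T : Submonoid D := (p.primeCompl.map gD) ⊔ Submonoid.powers z
    have hT : ¬ Disjoint (J : Set D) (T : Set D) := by
      intro hdisj
      obtain ⟨Q, hQp, hJQ, hQT⟩ := Ideal.exists_le_prime_disjoint J T hdisj
      have := hQp
      obtain ⟨Q', hQ'⟩ := hintD Q
      have h1 : Q.comap gD = p := by
        apply le_antisymm
        · intro c hc
          by_contra hcp
          refine Set.disjoint_left.mp hQT hc ?_
          exact Submonoid.mem_sup_left (Submonoid.mem_map_of_mem gD (show c ∈ p.primeCompl from hcp))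
        · exact hpmin.2 ⟨Ideal.comap_isPrime _ _, Ideal.comap_mono hJQ⟩ (by
            intro c hc
            by_contra hcp
            refine Set.disjoint_left.mp hQT hc ?_
            exact Submonoid.mem_sup_left
              (Submonoid.mem_map_of_mem gD (show c ∈ p.primeCompl from hcp)))
      have h2 : Q' = q' := by
        apply hspec
        apply PrimeSpectrum.ext
        change Q'.asIdeal.comap g = q'.asIdeal.comap g
        rw [hq', ← h1, ← hQ', Ideal.comap_comap]
        rfl
      have h3 : z ∈ Q := by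
        rw [← hQ', h2]
        exact hz
      exact Set.disjoint_left.mp hQT h3 (Submonoid.mem_sup_right (Submonoid.mem_powers z))
    rw [Set.not_disjoint_iff] at hT
    obtain ⟨w, hwJ, hwT⟩ := hT
    obtain ⟨u, hu, v, hv, rfl⟩ := Submonoid.mem_sup.mp hwT
    obtain ⟨s', hs', rfl⟩ := Submonoid.mem_map.mp hu
    obtain ⟨n, rfl⟩ := (Submonoid.mem_powers_iff v z).mp hv
    have h4 : (gD s' * z) ^ (n + 1) ∈ J := by
      have : (gD s' * z) ^ (n + 1) = (gD s' ^ n * z) * (gD s' * z ^ n) := by ring
      rw [this]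
      exact J.mul_mem_left _ hwJ
    have h5 := hradB (n + 1) _ (Nat.succ_pos n) h4
    have h6 := h5 1
    rw [Subalgebra.coe_one, mul_one, Subalgebra.coe_mul, hgDc] at h6
    refine ⟨s' * s, fun h => ?_, ?_⟩
    · rcases hpp.mem_or_mem h with h | h
      · exact hs' h
      · exact hsp h
    · have : g (s' * s) * c' = g s' * (z : C') + g (s' * a) := by
        change g (s' * s) * c' = g s' * (g s * c' - g a) + g (s' * a)
        rw [map_mul, map_mul]; ring
      rw [this]
      exact g.range.add_mem h6 ⟨_, rfl⟩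
  -- extend to all of `D`
  have hall : ∀ y ∈ D, ∃ t : C, t ∉ p ∧ g t * y ∈ g.range := by
    intro y hy
    rw [hD] at hy
    induction hy using Algebra.adjoin_induction with
    | mem x hx => rw [Set.mem_singleton_iff.mp hx]; exact keyC
    | algebraMap r =>
      exact ⟨1, fun h => hpp.ne_top ((Ideal.eq_top_iff_one _).mpr h), by
        rw [map_one, one_mul]; exact ⟨r, rfl⟩⟩
    | add x y _ _ hx hy =>
      obtain ⟨t, ht, htx⟩ := hx
      obtain ⟨t', ht', htx'⟩ := hy
      refine ⟨t * t', fun h => (hpp.mem_or_mem h).elim ht ht', ?_⟩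
      have : g (t * t') * (x + y) = g t' * (g t * x) + g t * (g t' * y) := by
        rw [map_mul]; ring
      rw [this]
      exact g.range.add_mem (g.range.mul_mem ⟨_, rfl⟩ htx) (g.range.mul_mem ⟨_, rfl⟩ htx')
    | mul x y _ _ hx hy =>
      obtain ⟨t, ht, htx⟩ := hx
      obtain ⟨t', ht', htx'⟩ := hy
      refine ⟨t * t', fun h => (hpp.mem_or_mem h).elim ht ht', ?_⟩
      have : g (t * t') * (x * y) = (g t * x) * (g t' * y) := by
        rw [map_mul]; ring
      rw [this]
      exact g.range.mul_mem htx htx'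
  have hfg : (Subalgebra.toSubmodule D).FG := by
    rw [hD]
    exact IsIntegral.fg_adjoin_singleton (hint c')
  obtain ⟨Y, hY⟩ := hfg
  have hYD : ∀ y ∈ Y, y ∈ D := fun y hy => by
    rw [← Subalgebra.mem_toSubmodule, ← hY]; exact Submodule.subset_span hy
  choose! t ht using fun y (hy : y ∈ Y) => hall y (hYD y hy)
  have hprod : (∏ y ∈ Y, t y) ∉ p := by
    intro h
    obtain ⟨y, hy, hty⟩ := (hpp.prod_mem_iff).mp h
    exact (ht y hy).1 hty
  apply hprod
  apply hIp
  change gD (∏ y ∈ Y, t y) ∈ J
  rw [hJ]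
  rintro ⟨y, hy⟩
  rw [hgDc]
  change g (∏ y ∈ Y, t y) * y ∈ g.range
  rw [← Subalgebra.mem_toSubmodule, ← hY] at hy
  induction hy using Submodule.span_induction with
  | mem x hx =>
    rw [← Finset.mul_prod_erase Y t hx, map_mul, mul_comm (g (t x)), mul_assoc]
    exact g.range.mul_mem ⟨_, rfl⟩ (ht x hx).2
  | zero => rw [mul_zero]; exact g.range.zero_mem
  | add x y _ _ hx hy => rw [mul_add]; exact g.range.add_mem hx hy
  | smul c x _ hx =>
    rw [Algebra.smul_def, mul_left_comm]
    exact g.range.mul_mem ⟨_, rfl⟩ hx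

end K804.SemiN
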